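import Cfsg.Agent.Lib.H28.CosetCertD

set_option autoImplicit false

/-!
# Glue for directed coset-enumeration certificates (helper28)

Letters `x : ℕ` are interpreted by group elements `g x`; the checker acts through the inverses
`γ x = (g x)⁻¹`, so that a word `u` acts on a left `G`-set as `((u.map g).prod)⁻¹`.
-/

namespace Cfsg.Agent.Lib.H28.HeM.CertGlue

open Cfsg.Agent.Lib.H17.CosetCert

variable {G : Type*} [Group G]

theorem act_inv {Q : Type*} [MulAction G Q] (g : ℕ → G) (u : List ℕ) (q : Q) :
    act (fun x => (g x)⁻¹) u q = ((u.map g).prod)⁻¹ • q := by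
  induction u generalizing q with
  | nil => simp [act]
  | cons x u ih =>
    change act (fun x => (g x)⁻¹) u ((g x)⁻¹ • q) = _
    rw [ih, List.map_cons, List.prod_cons, mul_inv_rev, mul_smul]

/-- the hypotheses of the checker, from relations in the group -/
theorem wordsOK (words : WT) (relL subL : List (List ℕ))
    (hspec : ∀ v ∈ words.toList, (v.2 = true → v.1 ∈ relL) ∧ (v.2 = false → v.1 ∈ subL))
    (g : ℕ → G) (hrel : ∀ w ∈ relL, (w.map g).prod = 1) (E : Subgroup G)
    (hsub : ∀ w ∈ subL, (w.map g).prod ∈ E) :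
    WordsOK (fun x => (g x)⁻¹) (((1 : G) : G ⧸ E)) words := by
  intro v hv
  obtain ⟨h1, h2⟩ := hspec v hv
  refine ⟨fun hr q => ?_, fun hr => ?_⟩
  · rw [act_inv, hrel _ (h1 hr), inv_one, one_smul]
  · rw [act_inv, MulAction.Quotient.smul_mk, QuotientGroup.eq]
    have := hsub _ (h2 hr)
    simpa using this

/-- a word fixing the base coset lies in the subgroup -/
theorem prod_mem_of_fix (g : ℕ → G) (E : Subgroup G) (u : List ℕ)
    (h : act (fun x => (g x)⁻¹) u (((1 : G) : G ⧸ E)) = (((1 : G) : G ⧸ E))) :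
    (u.map g).prod ∈ E := by
  rw [act_inv, MulAction.Quotient.smul_mk, QuotientGroup.eq] at h
  have h' : ((u.map g).prod)⁻¹ ∈ E := by
    have := E.inv_mem h
    simpa using this
  simpa using E.inv_mem h'

end Cfsg.Agent.Lib.H28.HeM.CertGlue
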