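import Cfsg.Agent.Lib.H28.HeM.CertGlue

set_option autoImplicit false

/-!
# Structured relator lists for central-extension certificates (helper28)

The relator list of a certificate consists of some base relators, the commutators of a few
"bit" words with the generators (saying that the bits are central), optionally the squares of
the bits, the empty word and the words `x x⁻¹`.
-/

namespace Cfsg.Agent.Lib.H28.HeM.RelStruct

variable {G : Type*} [Group G]

/-- the formal inverse of a word -/
def invL (inv : ℕ → ℕ) (w : List ℕ) : List ℕ := (w.map inv).reverse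

/-- the commutators of a word with the generators -/
def cenL (inv : ℕ → ℕ) (gens : List ℕ) (β : List ℕ) : List (List ℕ) :=
  gens.map fun x => β ++ [x] ++ invL inv β ++ [inv x]

/-- the full relator list -/
def fullL (inv : ℕ → ℕ) (gens letters : List ℕ) (baseL cenB sqB : List (List ℕ)) :
    List (List ℕ) :=
  baseL ++ cenB.flatMap (cenL inv gens) ++ sqB.map (fun β => β ++ β) ++ [[]] ++
    letters.map (fun x => [x, inv x])

theorem prod_invL (g : ℕ → G) (inv : ℕ → ℕ) (hinv : ∀ x, g (inv x) = (g x)⁻¹) (w : List ℕ) :
    ((invL inv w).map g).prod = ((w.map g).prod)⁻¹ := by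
  induction w with
  | nil => simp [invL]
  | cons x w ih =>
    have e : invL inv (x :: w) = invL inv w ++ [inv x] := by
      simp [invL]
    rw [e, List.map_append, List.prod_append, ih, List.map_cons, List.prod_cons,
      List.map_cons, List.map_nil, List.prod_cons, List.prod_nil, mul_one, hinv, mul_inv_rev]

theorem rel_of_struct (g : ℕ → G) (inv : ℕ → ℕ) (hinv : ∀ x, g (inv x) = (g x)⁻¹)
    (gens letters : List ℕ) (baseL cenB sqB : List (List ℕ))
    (hbase : ∀ w ∈ baseL, (w.map g).prod = 1)
    (hcen : ∀ β ∈ cenB, (β.map g).prod ∈ Subgroup.center G)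
    (hsq : ∀ β ∈ sqB, (β.map g).prod * (β.map g).prod = 1) :
    ∀ w ∈ fullL inv gens letters baseL cenB sqB, (w.map g).prod = 1 := by
  intro w hw
  unfold fullL at hw
  simp only [List.mem_append, List.mem_flatMap, List.mem_map, List.mem_singleton] at hw
  rcases hw with (((hw | ⟨β, hβ, hw⟩) | ⟨β, hβ, rfl⟩) | rfl) | ⟨x, -, rfl⟩
  · exact hbase w hw
  · unfold cenL at hw
    rw [List.mem_map] at hw
    obtain ⟨x, -, rfl⟩ := hw
    have hc := hcen β hβ
    rw [Subgroup.mem_center_iff] at hc
    simp only [List.map_append, List.prod_append, List.map_cons, List.map_nil, List.prod_cons,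
      List.prod_nil, mul_one]
    rw [prod_invL g inv hinv, hinv, ← hc (g x)]
    group
  · rw [List.map_append, List.prod_append]
    exact hsq β hβ
  · simp
  · simp [hinv]

end Cfsg.Agent.Lib.H28.HeM.RelStruct
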