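import Cfsg.Agent.Lib.H17.HeGlue

set_option autoImplicit false
set_option maxRecDepth 100000

/-!
# The relations of the Held presentation, as a structure (helper28)
-/

namespace Cfsg.Agent.Lib.H28.HeM.HeRel

open Cfsg.Agent.Lib.H17.HeGlue Cfsg.Agent.Lib.H17.CosetCert

/-- the relations of the Held presentation except the last one -/
structure Rel0 {K : Type*} [Group K] (a b c d e f g : K) : Prop where
  sa : a * a = 1
  sb : b * b = 1
  sc : c * c = 1
  sd : d * d = 1
  se : e * e = 1
  sf : f * f = 1
  sg : g * g = 1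
  ab : (a * b) ^ 4 = 1
  ac : (a * c) ^ 2 = 1
  ad : (a * d) ^ 2 = 1
  ae : (a * e) ^ 2 = 1
  af : (a * f) ^ 2 = 1
  ag : (a * g) ^ 2 = 1
  bc : (b * c) ^ 3 = 1
  bd : (b * d) ^ 2 = 1
  be : (b * e) ^ 2 = 1
  bf : (b * f) ^ 2 = 1
  bg : (b * g) ^ 2 = 1
  cd : (c * d) ^ 10 = 1
  ce : (c * e) ^ 2 = 1
  cf : (c * f) ^ 2 = 1
  cg : (c * g) ^ 2 = 1
  de : (d * e) ^ 3 = 1
  df : (d * f) ^ 3 = 1
  dg : (d * g) ^ 3 = 1
  ef : (e * f) ^ 2 = 1
  eg : (e * g) ^ 2 = 1
  fg : (f * g) ^ 4 = 1
  x1 : e = (f * g) ^ 2
  x2 : e = (a * b * c) ^ 3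
  x3 : a = (c * d) ^ 5

/-- the generators of the presented group -/
noncomputable def s (u : Gen) : PresentedGroup rels := PresentedGroup.of u

theorem rel0_of : Rel0 (s .a) (s .b) (s .c) (s .d) (s .e) (s .f) (s .g) := by
  have hw : ∀ w ∈ relW, ((w.map gen).map s).prod = 1 := relW_trivial
  have hA := of_mul_self .a
  have hB := of_mul_self .b
  have hC := of_mul_self .c
  have hD := of_mul_self .d
  have hE := of_mul_self .e
  have hF := of_mul_self .f
  have hG := of_mul_self .g
  have iA : (s .a)⁻¹ = s .a := inv_eq_of_mul_eq_one_left hA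
  have iB : (s .b)⁻¹ = s .b := inv_eq_of_mul_eq_one_left hB
  have iC : (s .c)⁻¹ = s .c := inv_eq_of_mul_eq_one_left hC
  have iD : (s .d)⁻¹ = s .d := inv_eq_of_mul_eq_one_left hD
  have iF : (s .f)⁻¹ = s .f := inv_eq_of_mul_eq_one_left hF
  have iG : (s .g)⁻¹ = s .g := inv_eq_of_mul_eq_one_left hG
  have key : ∀ w ∈ relW, ((w.map gen).map s).prod = 1 := hw
  have get : ∀ t (h : t < relW.length), ((relW[t].map gen).map s).prod = 1 :=
    fun t h => key _ (List.getElem_mem h)
  refine ⟨hA, hB, hC, hD, hE, hF, hG, ?_, ?_, ?_, ?_, ?_, ?_, ?_, ?_, ?_, ?_, ?_, ?_, ?_, ?_, ?_,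
    ?_, ?_, ?_, ?_, ?_, ?_, ?_, ?_, ?_⟩
  · have := get 0 (by decide)
    simpa [relW, gen, pow_succ, mul_assoc] using this
  · have := get 1 (by decide)
    simpa [relW, gen, pow_succ, mul_assoc] using this
  · have := get 2 (by decide)
    simpa [relW, gen, pow_succ, mul_assoc] using this
  · have := get 3 (by decide)
    simpa [relW, gen, pow_succ, mul_assoc] using this
  · have := get 4 (by decide)
    simpa [relW, gen, pow_succ, mul_assoc] using this
  · have := get 5 (by decide)
    simpa [relW, gen, pow_succ, mul_assoc] using this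
  · have := get 6 (by decide)
    simpa [relW, gen, pow_succ, mul_assoc] using this
  · have := get 7 (by decide)
    simpa [relW, gen, pow_succ, mul_assoc] using this
  · have := get 8 (by decide)
    simpa [relW, gen, pow_succ, mul_assoc] using this
  · have := get 9 (by decide)
    simpa [relW, gen, pow_succ, mul_assoc] using this
  · have := get 10 (by decide)
    simpa [relW, gen, pow_succ, mul_assoc] using this
  · have := get 11 (by decide)
    simpa [relW, gen, pow_succ, mul_assoc] using this
  · have := get 12 (by decide)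
    simpa [relW, gen, pow_succ, mul_assoc] using this
  · have := get 13 (by decide)
    simpa [relW, gen, pow_succ, mul_assoc] using this
  · have := get 14 (by decide)
    simpa [relW, gen, pow_succ, mul_assoc] using this
  · have := get 15 (by decide)
    simpa [relW, gen, pow_succ, mul_assoc] using this
  · have := get 16 (by decide)
    simpa [relW, gen, pow_succ, mul_assoc] using this
  · have := get 17 (by decide)
    simpa [relW, gen, pow_succ, mul_assoc] using this
  · have := get 18 (by decide)
    simpa [relW, gen, pow_succ, mul_assoc] using this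
  · have := get 19 (by decide)
    simpa [relW, gen, pow_succ, mul_assoc] using this
  · have := get 20 (by decide)
    simpa [relW, gen, pow_succ, mul_assoc] using this
  · have h := get 21 (by decide)
    have h' : s .e * (s .g * (s .f * (s .g * s .f))) = 1 := by
      simpa [relW, gen, mul_assoc] using h
    rw [eq_inv_of_mul_eq_one_left h']
    simp only [mul_inv_rev, iF, iG, pow_succ, pow_zero, one_mul, mul_assoc]
  · have h := get 22 (by decide)
    have h' : s .e * (s .c * (s .b * (s .a * (s .c * (s .b * (s .a * (s .c * (s .b * s .a)))))))) = 1 := by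
      simpa [relW, gen, mul_assoc] using h
    rw [eq_inv_of_mul_eq_one_left h']
    simp only [mul_inv_rev, iA, iB, iC, pow_succ, pow_zero, one_mul, mul_assoc]
  · have h := get 23 (by decide)
    have h' : s .a * (s .d * (s .c * (s .d * (s .c * (s .d * (s .c * (s .d * (s .c * (s .d * s .c))))))))) = 1 := by
      simpa [relW, gen, mul_assoc] using h
    rw [eq_inv_of_mul_eq_one_left h']
    simp only [mul_inv_rev, iC, iD, pow_succ, pow_zero, one_mul, mul_assoc]

theorem x4_of : (s .c * s .d * s .f * s .g) ^ 4 = 1 := by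
  have h := relW_trivial relW[24] (List.getElem_mem (by decide))
  change ((relW[24].map gen).map s).prod = 1 at h
  simpa [relW, gen, pow_succ, mul_assoc] using h

/-- the relator words are trivial for elements satisfying the relations -/
theorem words_of_rel {K : Type*} [Group K] (t : Gen → K)
    (h : Rel0 (t .a) (t .b) (t .c) (t .d) (t .e) (t .f) (t .g))
    (h4 : (t .c * t .d * t .f * t .g) ^ 4 = 1) :
    ∀ w ∈ relW, ((w.map gen).map t).prod = 1 := by
  have iA : (t .a)⁻¹ = t .a := inv_eq_of_mul_eq_one_left h.sa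
  have iB : (t .b)⁻¹ = t .b := inv_eq_of_mul_eq_one_left h.sb
  have iC : (t .c)⁻¹ = t .c := inv_eq_of_mul_eq_one_left h.sc
  have iD : (t .d)⁻¹ = t .d := inv_eq_of_mul_eq_one_left h.sd
  have iF : (t .f)⁻¹ = t .f := inv_eq_of_mul_eq_one_left h.sf
  have iG : (t .g)⁻¹ = t .g := inv_eq_of_mul_eq_one_left h.sg
  have k1 : t .e * ((t .f * t .g) ^ 2)⁻¹ = 1 := by rw [← h.x1]; exact mul_inv_cancel _
  have k2 : t .e * ((t .a * t .b * t .c) ^ 3)⁻¹ = 1 := by rw [← h.x2]; exact mul_inv_cancel _
  have k3 : t .a * ((t .c * t .d) ^ 5)⁻¹ = 1 := by rw [← h.x3]; exact mul_inv_cancel _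
  simp only [pow_succ, pow_zero, one_mul, mul_assoc, mul_inv_rev, iA, iB, iC, iD, iF, iG] at k1 k2 k3
  have hab := h.ab
  have hac := h.ac
  have had := h.ad
  have hae := h.ae
  have haf := h.af
  have hag := h.ag
  have hbc := h.bc
  have hbd := h.bd
  have hbe := h.be
  have hbf := h.bf
  have hbg := h.bg
  have hcd := h.cd
  have hce := h.ce
  have hcf := h.cf
  have hcg := h.cg
  have hde := h.de
  have hdf := h.df
  have hdg := h.dg
  have hef := h.ef
  have heg := h.eg
  have hfg := h.fg
  simp only [pow_succ, pow_zero, one_mul, mul_assoc] at hab hac had hae haf hag hbc hbd hbe hbf hbg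
  simp only [pow_succ, pow_zero, one_mul, mul_assoc] at hcd hce hcf hcg hde hdf hdg hef heg hfg h4
  intro w hw
  simp only [relW, List.mem_cons, List.not_mem_nil, or_false] at hw
  rcases hw with rfl | rfl | rfl | rfl | rfl | rfl | rfl | rfl | rfl | rfl | rfl | rfl | rfl |
      rfl | rfl | rfl | rfl | rfl | rfl | rfl | rfl | rfl | rfl | rfl | rfl | rfl | rfl | rfl |
      rfl | rfl | rfl | rfl | rfl <;>
    simp only [gen, List.map_cons, List.map_nil, List.prod_cons, List.prod_nil, mul_one]
  · exact hab
  · exact hac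
  · exact had
  · exact hae
  · exact haf
  · exact hag
  · exact hbc
  · exact hbd
  · exact hbe
  · exact hbf
  · exact hbg
  · exact hcd
  · exact hce
  · exact hcf
  · exact hcg
  · exact hde
  · exact hdf
  · exact hdg
  · exact hef
  · exact heg
  · exact hfg
  · exact k1
  · exact k2
  · exact k3
  · exact h4
  · exact h.sa
  · exact h.sb
  · exact h.sc
  · exact h.sd
  · exact h.se
  · exact h.sf
  · exact h.sg

end Cfsg.Agent.Lib.H28.HeM.HeRel
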