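import Cfsg.Agent.Lib.H28.CentralTools

set_option autoImplicit false

/-!
# Central elements of order at most two (helper28)
-/

namespace Cfsg.Agent.Lib.H28.HeM.KerTools

open Subgroup Cfsg.Agent.Lib.H28.CentralTools
open scoped commutatorElement

variable {Γ : Type*} [Group Γ]

/-- central and of order at most two -/
def CI (k : Γ) : Prop := k ∈ center Γ ∧ k * k = 1

theorem CI.pow2 {k : Γ} (h : CI k) : k ^ 2 = 1 := by rw [pow_two]; exact h.2

theorem CI.pow3 {k : Γ} (h : CI k) : k ^ 3 = k := by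
  rw [pow_succ, h.pow2, one_mul]

theorem CI.pow5 {k : Γ} (h : CI k) : k ^ 5 = k := by
  rw [show 5 = 2 + 3 by norm_num, pow_add, h.pow2, one_mul, h.pow3]

theorem CI.inv {k : Γ} (h : CI k) : k⁻¹ = k := inv_eq_of_mul_eq_one_left h.2

theorem CI.one : CI (1 : Γ) := ⟨one_mem _, by simp⟩

theorem mul_ci_pow2 {k : Γ} (h : CI k) (x : Γ) : (x * k) ^ 2 = x ^ 2 := by
  rw [mul_central_pow h.1, h.pow2, mul_one]

theorem mul_ci_pow3 {k : Γ} (h : CI k) (x : Γ) : (x * k) ^ 3 = x ^ 3 * k := by
  rw [mul_central_pow h.1, h.pow3]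

theorem mul_ci_pow5 {k : Γ} (h : CI k) (x : Γ) : (x * k) ^ 5 = x ^ 5 * k := by
  rw [mul_central_pow h.1, h.pow5]

/-- moving a central element to the right -/
theorem mid_right {k : Γ} (h : k ∈ center Γ) (x y : Γ) : x * k * y = x * y * k := by
  rw [mul_assoc, cen_comm h y, ← mul_assoc]

/-- rescaling the left factor kills a central cube of order two -/
theorem fix_left {x y : Γ} (h : CI ((x * y) ^ 3)) : (x * (x * y) ^ 3 * y) ^ 3 = 1 := by
  rw [mid_right h.1, mul_ci_pow3 h]
  exact h.2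

/-- rescaling the right factor kills a central cube of order two -/
theorem fix_right {x y : Γ} (h : CI ((x * y) ^ 3)) : (x * (y * (x * y) ^ 3)) ^ 3 = 1 := by
  rw [← mul_assoc, mul_ci_pow3 h]
  exact h.2

/-- the squares of two elements with central squares of order two and product of order three
agree -/
theorem sq_eq_of_cube {x y : Γ} (hx : CI (x * x)) (hy : CI (y * y)) (h : (x * y) ^ 3 = 1) :
    x * x = y * y := by
  have cp := cen_comm hx.1
  have cq := cen_comm hy.1
  set p := x * x with hp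
  set q := y * y with hq
  have huw : (x * y * x) * (y * x * y) = 1 := by
    have : (x * y) ^ 3 = (x * y * x) * (y * x * y) := by
      simp only [pow_succ, pow_zero, one_mul, mul_assoc]
    rw [← this, h]
  have hu : (x * y * x) * (x * y * x) = q := by
    calc (x * y * x) * (x * y * x) = x * y * (x * x) * y * x := by group
      _ = x * y * p * y * x := by rw [hp]
      _ = x * (y * p) * y * x := by group
      _ = x * (p * y) * y * x := by rw [cp y]
      _ = x * p * (y * y) * x := by group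
      _ = x * p * q * x := by rw [hq]
      _ = p * x * q * x := by rw [cp x]
      _ = p * (x * q) * x := by group
      _ = p * (q * x) * x := by rw [cq x]
      _ = p * q * (x * x) := by group
      _ = p * q * p := by rw [hp]
      _ = q * p * p := by rw [cq p]
      _ = q * (p * p) := by group
      _ = q := by rw [hx.2, mul_one]
  have hw : (y * x * y) * (y * x * y) = p := by
    calc (y * x * y) * (y * x * y) = y * x * (y * y) * x * y := by group
      _ = y * x * q * x * y := by rw [hq]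
      _ = y * (x * q) * x * y := by group
      _ = y * (q * x) * x * y := by rw [cq x]
      _ = y * q * (x * x) * y := by group
      _ = y * q * p * y := by rw [hp]
      _ = q * y * p * y := by rw [cq y]
      _ = q * (y * p) * y := by group
      _ = q * (p * y) * y := by rw [cp y]
      _ = q * p * (y * y) := by group
      _ = q * p * q := by rw [hq]
      _ = p * q * q := by rw [cp q]
      _ = p * (q * q) := by group
      _ = p := by rw [hy.2, mul_one]
  have hwi : y * x * y = (x * y * x)⁻¹ := eq_inv_of_mul_eq_one_right huw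
  have : p = q⁻¹ := by
    rw [← hw, hwi, ← mul_inv_rev, hu]
  rw [this, hy.inv]

/-- the commutator with `y` of elements whose product has order three -/
theorem comm_eq_of_cube {y x₁ x₂ : Γ} (h₁ : x₁ ∈ commSub y) (h₂ : x₂ ∈ commSub y)
    (s₁ : ⁅x₁, y⁆ * ⁅x₁, y⁆ = 1) (s₂ : ⁅x₂, y⁆ * ⁅x₂, y⁆ = 1) (h : (x₁ * x₂) ^ 3 = 1) :
    ⁅x₁, y⁆ = ⁅x₂, y⁆ := by
  have e := comm_mul_of_mem (x₁ := x₁) h₂
  have hm : x₁ * x₂ ∈ commSub y := mul_mem h₁ h₂
  -- the commutator of the cube
  have e3 : ⁅(x₁ * x₂) ^ 3, y⁆ = ⁅x₁ * x₂, y⁆ * ⁅x₁ * x₂, y⁆ * ⁅x₁ * x₂, y⁆ := by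
    have : (x₁ * x₂) ^ 3 = (x₁ * x₂) * (x₁ * x₂) * (x₁ * x₂) := by
      simp only [pow_succ, pow_zero, one_mul]
    rw [this, comm_mul_of_mem hm, comm_mul_of_mem hm]
  rw [h, commutatorElement_one_left, e] at e3
  have c₁ := cen_comm (mem_commSub.mp h₁)
  set u := ⁅x₁, y⁆ with hu
  set w := ⁅x₂, y⁆ with hw
  have e4 : u * w = 1 := by
    have : u * w * (u * w) * (u * w) = u * w := by
      calc u * w * (u * w) * (u * w) = u * (w * u) * (w * u) * w := by group
        _ = u * (u * w) * (u * w) * w := by rw [← c₁ w]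
        _ = (u * u) * w * u * (w * w) := by group
        _ = w * u := by rw [s₁, s₂, one_mul, mul_one]
        _ = u * w := (c₁ w).symm
    rw [this] at e3
    exact e3.symm
  have : u = w⁻¹ := eq_inv_of_mul_eq_one_left e4
  rw [this]
  exact inv_eq_of_mul_eq_one_left s₂

/-- the commutator with `y` of the square of a product -/
theorem comm_one_of_sq {y x₁ x₂ x₃ : Γ} (h₁ : x₁ ∈ commSub y) (h₂ : x₂ ∈ commSub y)
    (s₁ : ⁅x₁, y⁆ * ⁅x₁, y⁆ = 1) (s₂ : ⁅x₂, y⁆ * ⁅x₂, y⁆ = 1) (h : x₃ = (x₁ * x₂) ^ 2) :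
    ⁅x₃, y⁆ = 1 := by
  have e := comm_mul_of_mem (x₁ := x₁) h₂
  have hm : x₁ * x₂ ∈ commSub y := mul_mem h₁ h₂
  have e2 : ⁅(x₁ * x₂) ^ 2, y⁆ = ⁅x₁ * x₂, y⁆ * ⁅x₁ * x₂, y⁆ := by
    rw [pow_two, comm_mul_of_mem hm]
  rw [h, e2, e]
  have c₁ := cen_comm (mem_commSub.mp h₁)
  set u := ⁅x₁, y⁆ with hu
  set w := ⁅x₂, y⁆ with hw
  calc u * w * (u * w) = u * (w * u) * w := by group
    _ = u * (u * w) * w := by rw [← c₁ w]
    _ = (u * u) * (w * w) := by group
    _ = 1 := by rw [s₁, s₂, one_mul]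

theorem comm_symm_one {x y : Γ} (h : ⁅x, y⁆ = 1) : ⁅y, x⁆ = 1 := by
  rw [← commutatorElement_inv, h, inv_one]

theorem mul_comm_of_comm_one {x y : Γ} (h : ⁅x, y⁆ = 1) : x * y = y * x :=
  (commutatorElement_eq_one_iff_mul_comm.mp h)

theorem pow_two_of_comm {x y : Γ} (h : x * y = y * x) (hx : x * x = 1) (hy : y * y = 1) :
    (x * y) ^ 2 = 1 := by
  rw [pow_two]
  calc x * y * (x * y) = x * (y * x) * y := by group
    _ = x * (x * y) * y := by rw [h]
    _ = (x * x) * (y * y) := by group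
    _ = 1 := by rw [hx, hy, one_mul]

end Cfsg.Agent.Lib.H28.HeM.KerTools
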