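import Cfsg.Agent.Lib.H28.HeM.KerTools
import Cfsg.Agent.Lib.H28.HeM.HeRel
import Cfsg.Agent.Lib.H28.HeM.CertW.Main
import Cfsg.Agent.Lib.H28.HeM.CertC.Main

set_option autoImplicit false
set_option maxRecDepth 100000

/-!
# Extensions of the Held group with kernel of odd exponent (helper28)

If the kernel of a surjection onto a group generated by seven involutions satisfying the Held
relations consists of central elements of odd order dividing `p`, the seven involutions have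
involutory lifts satisfying all the relations except possibly the last one.
-/

namespace Cfsg.Agent.Lib.H28.HeM.Odd

open Subgroup Cfsg.Agent.Lib.H28.CentralTools Cfsg.Agent.Lib.H28.HeM.KerTools
  Cfsg.Agent.Lib.H28.HeM.HeRel

variable {Γ : Type*} [Group Γ] {K : Type*} [Group K]

/-- an element of odd order whose square is trivial is trivial -/
theorem eq_one_of_sq_of_odd {r : Γ} {p : ℕ} (hp : Odd p) (h2 : r * r = 1) (hr : r ^ p = 1) :
    r = 1 := by
  obtain ⟨m, rfl⟩ := hp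
  rw [pow_succ, pow_mul, pow_two, h2, one_pow, one_mul] at hr
  exact hr

/-- involutory lifts of involutions -/
theorem exists_invol_lift (σ : Γ →* K) (hs : Function.Surjective σ) {p : ℕ} (hp : Odd p)
    (hk : ∀ k : Γ, σ k = 1 → k ∈ center Γ ∧ k ^ p = 1) (A : K) (hA : A * A = 1) :
    ∃ a : Γ, σ a = A ∧ a * a = 1 := by
  obtain ⟨a0, ha0⟩ := hs A
  refine ⟨a0 ^ p, ?_, ?_⟩
  · rw [map_pow, ha0]
    obtain ⟨m, rfl⟩ := hp
    rw [pow_succ, pow_mul, pow_two, hA, one_pow, one_mul]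
  · have h1 : (a0 * a0) ^ p = 1 := (hk _ (by rw [map_mul, ha0, hA])).2
    rw [← pow_two, ← pow_mul, mul_comm, pow_mul, pow_two]
    exact h1

/-- a relator `(x y)ᵐ` in two involutions which lies in the kernel is trivial -/
theorem cox_exact (σ : Γ →* K) {p : ℕ} (hp : Odd p)
    (hk : ∀ k : Γ, σ k = 1 → k ∈ center Γ ∧ k ^ p = 1) {x y : Γ} (hx : x * x = 1)
    (hy : y * y = 1) (m : ℕ) (h : (σ x * σ y) ^ m = 1) : (x * y) ^ m = 1 := by
  have hr := hk ((x * y) ^ m) (by rw [map_pow, map_mul, h])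
  have hxi : x⁻¹ = x := inv_eq_of_mul_eq_one_left hx
  have hyi : y⁻¹ = y := inv_eq_of_mul_eq_one_left hy
  have e1 : ((x * y) ^ m)⁻¹ = (y * x) ^ m := by
    rw [← inv_pow, mul_inv_rev, hxi, hyi]
  have e2 : (y * x) ^ m = x⁻¹ * (x * y) ^ m * x := by
    have : y * x = x⁻¹ * (x * y) * x⁻¹⁻¹ := by group
    rw [this, conj_pow, inv_inv]
  have e3 : x⁻¹ * (x * y) ^ m * x = (x * y) ^ m := by
    rw [mul_assoc, cen_comm hr.1 x, inv_mul_cancel_left]
  have h2 : (x * y) ^ m * (x * y) ^ m = 1 := by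
    nth_rewrite 1 [← e3, ← e2, ← e1]
    exact inv_mul_cancel _
  exact eq_one_of_sq_of_odd hp h2 hr.2

/-- a relator `e w⁻¹`, with `e` and `w` involutions, which lies in the kernel is trivial -/
theorem extra_exact (σ : Γ →* K) {p : ℕ} (hp : Odd p)
    (hk : ∀ k : Γ, σ k = 1 → k ∈ center Γ ∧ k ^ p = 1) {e w : Γ} (he : e * e = 1)
    (hw : w * w = 1) (h : σ e = σ w) : e = w := by
  have hr := hk (e * w⁻¹) (by rw [map_mul, map_inv, h, mul_inv_cancel])
  have c := cen_comm hr.1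
  have e1 : e = e * w⁻¹ * w := by group
  have h2 : (e * w⁻¹) * (e * w⁻¹) = 1 := by
    calc (e * w⁻¹) * (e * w⁻¹) = (e * w⁻¹) * (e * w⁻¹) * (w * w) := by rw [hw, mul_one]
      _ = (e * w⁻¹) * ((e * w⁻¹) * w) * w := by group
      _ = (e * w⁻¹) * (w * (e * w⁻¹)) * w := by rw [c w]
      _ = e * e := by group
      _ = 1 := he
  have h3 := eq_one_of_sq_of_odd hp h2 hr.2
  rw [e1, h3, one_mul]

theorem main (σ : Γ →* K) (hs : Function.Surjective σ) {p : ℕ} (hp : Odd p)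
    (hk : ∀ k : Γ, σ k = 1 → k ∈ center Γ ∧ k ^ p = 1) (A B C D E F G : K)
    (R : Rel0 A B C D E F G) :
    ∃ a b c d e f g : Γ, σ a = A ∧ σ b = B ∧ σ c = C ∧ σ d = D ∧ σ e = E ∧ σ f = F ∧ σ g = G ∧
      Rel0 a b c d e f g := by
  obtain ⟨a, ha, haa⟩ := exists_invol_lift σ hs hp hk A R.sa
  obtain ⟨b, hb, hbb⟩ := exists_invol_lift σ hs hp hk B R.sb
  obtain ⟨c, hc, hcc⟩ := exists_invol_lift σ hs hp hk C R.sc
  obtain ⟨d, hd, hdd⟩ := exists_invol_lift σ hs hp hk D R.sd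
  obtain ⟨e, he, hee⟩ := exists_invol_lift σ hs hp hk E R.se
  obtain ⟨f, hf, hff⟩ := exists_invol_lift σ hs hp hk F R.sf
  obtain ⟨g, hg, hgg⟩ := exists_invol_lift σ hs hp hk G R.sg
  refine ⟨a, b, c, d, e, f, g, ha, hb, hc, hd, he, hf, hg, ?_⟩
  have hab := cox_exact σ hp hk haa hbb 4 (by rw [ha, hb]; exact R.ab)
  have hac := cox_exact σ hp hk haa hcc 2 (by rw [ha, hc]; exact R.ac)
  have hbc := cox_exact σ hp hk hbb hcc 3 (by rw [hb, hc]; exact R.bc)
  have hcd := cox_exact σ hp hk hcc hdd 10 (by rw [hc, hd]; exact R.cd)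
  have hfg := cox_exact σ hp hk hff hgg 4 (by rw [hf, hg]; exact R.fg)
  have h6 := CertW.main a b c haa hbb hcc hab hac hbc
  refine ⟨haa, hbb, hcc, hdd, hee, hff, hgg, hab, hac,
    cox_exact σ hp hk haa hdd 2 (by rw [ha, hd]; exact R.ad),
    cox_exact σ hp hk haa hee 2 (by rw [ha, he]; exact R.ae),
    cox_exact σ hp hk haa hff 2 (by rw [ha, hf]; exact R.af),
    cox_exact σ hp hk haa hgg 2 (by rw [ha, hg]; exact R.ag), hbc,
    cox_exact σ hp hk hbb hdd 2 (by rw [hb, hd]; exact R.bd),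
    cox_exact σ hp hk hbb hee 2 (by rw [hb, he]; exact R.be),
    cox_exact σ hp hk hbb hff 2 (by rw [hb, hf]; exact R.bf),
    cox_exact σ hp hk hbb hgg 2 (by rw [hb, hg]; exact R.bg), hcd,
    cox_exact σ hp hk hcc hee 2 (by rw [hc, he]; exact R.ce),
    cox_exact σ hp hk hcc hff 2 (by rw [hc, hf]; exact R.cf),
    cox_exact σ hp hk hcc hgg 2 (by rw [hc, hg]; exact R.cg),
    cox_exact σ hp hk hdd hee 3 (by rw [hd, he]; exact R.de),
    cox_exact σ hp hk hdd hff 3 (by rw [hd, hf]; exact R.df),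
    cox_exact σ hp hk hdd hgg 3 (by rw [hd, hg]; exact R.dg),
    cox_exact σ hp hk hee hff 2 (by rw [he, hf]; exact R.ef),
    cox_exact σ hp hk hee hgg 2 (by rw [he, hg]; exact R.eg), hfg, ?_, ?_, ?_⟩
  · apply extra_exact σ hp hk hee
    · rw [← pow_two, ← pow_mul]; exact hfg
    · rw [he, map_pow, map_mul, hf, hg]; exact R.x1
  · apply extra_exact σ hp hk hee
    · rw [← pow_two, ← pow_mul]; exact h6
    · rw [he, map_pow, map_mul, map_mul, ha, hb, hc]; exact R.x2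
  · apply extra_exact σ hp hk haa
    · rw [← pow_two, ← pow_mul]; exact hcd
    · rw [ha, map_pow, map_mul, hc, hd]; exact R.x3

/-- for `p` prime to `6`, the last relation holds too -/
theorem last (σ : Γ →* K) {p : ℕ} (hp : Nat.Coprime p 12)
    (hk : ∀ k : Γ, σ k = 1 → k ∈ center Γ ∧ k ^ p = 1) {a b c d e f g : Γ}
    (R : Rel0 a b c d e f g) (h4 : σ ((c * d * f * g) ^ 4) = 1) : (c * d * f * g) ^ 4 = 1 := by
  have hz := hk _ h4
  have h := CertC.main a c d e f g R.sa R.sc R.sd R.se R.sf R.sg R.ac R.ad R.ae R.af R.ag R.cd R.ce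
    R.cf R.cg R.de R.df R.dg R.ef R.eg R.fg R.x1 R.x3 hz.1
  obtain ⟨n, hn⟩ := Subgroup.mem_zpowers_iff.mp h
  have h12 : ((c * d * f * g) ^ 4) ^ 12 = 1 := by
    rw [show 12 = 3 * 4 by norm_num, pow_mul, ← hn, ← zpow_natCast, ← zpow_mul, mul_comm, zpow_mul,
      zpow_natCast, R.fg, one_zpow]
  have hd1 : orderOf ((c * d * f * g) ^ 4) ∣ p := orderOf_dvd_of_pow_eq_one hz.2
  have hd2 : orderOf ((c * d * f * g) ^ 4) ∣ 12 := orderOf_dvd_of_pow_eq_one h12
  have := Nat.dvd_gcd hd1 hd2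
  rw [hp.gcd_eq_one, Nat.dvd_one, orderOf_eq_one_iff] at this
  exact this

end Cfsg.Agent.Lib.H28.HeM.Odd
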