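import Cfsg.Agent.Lib.H28.HeM.SLower
import Cfsg.Agent.Lib.H28.HeM.CertS.Main
import Cfsg.Agent.Lib.H28.HeM.HeRel
import Cfsg.Agent.Lib.H28.StemTools
import Cfsg.Agent.Lib.H28.StemPres

set_option autoImplicit false
set_option maxRecDepth 100000

/-!
# Extensions of the Held group with kernel of exponent three (helper28)

The subgroup `⟨a, b, c, d, e⟩ = 3.S₇` of the Held group has index prime to three, and exact lifts
of its generators generate an isomorphic copy of it; transfer then shows that a central kernel of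
exponent three inside the commutator subgroup is trivial.
-/

namespace Cfsg.Agent.Lib.H28.HeM.Three

open Subgroup Cfsg.Agent.Lib.H28.HeM.HeRel Cfsg.Agent.Lib.H17.HeGlue
open scoped commutatorElement

variable {Γ : Type*} [Group Γ]

/-- the order of a group generated by five involutions with the relations of `3.S₇` -/
theorem card_closure_le (a b c d e : Γ)
    (ha : a * a = 1) (hb : b * b = 1) (hc : c * c = 1) (hd : d * d = 1) (he : e * e = 1)
    (hab : (a * b) ^ 4 = 1) (hac : (a * c) ^ 2 = 1) (had : (a * d) ^ 2 = 1) (hae : (a * e) ^ 2 = 1)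
    (hbc : (b * c) ^ 3 = 1) (hbd : (b * d) ^ 2 = 1) (hbe : (b * e) ^ 2 = 1)
    (hcd : (c * d) ^ 10 = 1) (hce : (c * e) ^ 2 = 1) (hde : (d * e) ^ 3 = 1)
    (h1 : e = (a * b * c) ^ 3) (h2 : a = (c * d) ^ 5) :
    Nat.card (closure ({a, b, c, d, e} : Set Γ)) ≤ 15120 := by
  set T := closure ({a, b, c, d, e} : Set Γ) with hT
  have ma : a ∈ T := subset_closure (by simp)
  have mb : b ∈ T := subset_closure (by simp)
  have mc : c ∈ T := subset_closure (by simp)
  have md : d ∈ T := subset_closure (by simp)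
  have me : e ∈ T := subset_closure (by simp)
  apply CertS.card_le (⟨a, ma⟩ : T) ⟨b, mb⟩ ⟨c, mc⟩ ⟨d, md⟩ ⟨e, me⟩
  · exact Subtype.ext (by push_cast; exact ha)
  · exact Subtype.ext (by push_cast; exact hb)
  · exact Subtype.ext (by push_cast; exact hc)
  · exact Subtype.ext (by push_cast; exact hd)
  · exact Subtype.ext (by push_cast; exact he)
  · exact Subtype.ext (by push_cast; exact hab)
  · exact Subtype.ext (by push_cast; exact hac)
  · exact Subtype.ext (by push_cast; exact had)
  · exact Subtype.ext (by push_cast; exact hae)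
  · exact Subtype.ext (by push_cast; exact hbc)
  · exact Subtype.ext (by push_cast; exact hbd)
  · exact Subtype.ext (by push_cast; exact hbe)
  · exact Subtype.ext (by push_cast; exact hcd)
  · exact Subtype.ext (by push_cast; exact hce)
  · exact Subtype.ext (by push_cast; exact hde)
  · exact Subtype.ext (by push_cast; exact h1)
  · exact Subtype.ext (by push_cast; exact h2)
  · rw [eq_top_iff, ← closure_closure_coe_preimage (k := ({a, b, c, d, e} : Set Γ))]
    apply Subgroup.closure_mono
    intro x hx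
    have hx' : (x : Γ) ∈ ({a, b, c, d, e} : Set Γ) := hx
    simp only [Set.mem_insert_iff, Set.mem_singleton_iff] at hx' ⊢
    rcases hx' with h | h | h | h | h
    · exact Or.inl (Subtype.ext h)
    · exact Or.inr (Or.inl (Subtype.ext h))
    · exact Or.inr (Or.inr (Or.inl (Subtype.ext h)))
    · exact Or.inr (Or.inr (Or.inr (Or.inl (Subtype.ext h))))
    · exact Or.inr (Or.inr (Or.inr (Or.inr (Subtype.ext h))))

theorem main [Finite Γ] (σ : Γ →* PresentedGroup rels) (hs : Function.Surjective σ)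
    (hc : σ.ker ≤ center Γ) (hd : σ.ker ≤ commutator Γ) (h3 : ∀ k ∈ σ.ker, k ^ 3 = 1)
    (a b c d e f g : Γ) (ha : σ a = s .a) (hb : σ b = s .b) (hcσ : σ c = s .c)
    (hdσ : σ d = s .d) (he : σ e = s .e) (R : Rel0 a b c d e f g) : σ.ker = ⊥ := by
  set T := closure ({a, b, c, d, e} : Set Γ) with hT
  have hTle : Nat.card T ≤ 15120 := card_closure_le a b c d e R.sa R.sb R.sc R.sd R.se R.ab R.ac
    R.ad R.ae R.bc R.bd R.be R.cd R.ce R.de R.x2 R.x3
  have hmap : T.map σ = SLower.Ssub := by
    rw [hT, MonoidHom.map_closure]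
    unfold SLower.Ssub
    congr 1
    simp only [Set.image_insert_eq, Set.image_singleton, ha, hb, hcσ, hdσ, he]
    rfl
  have hS : 15120 ≤ Nat.card SLower.Ssub := SLower.card_ge
  have hsurj : Function.Surjective (σ.subgroupMap T) := σ.subgroupMap_surjective T
  have hle2 : Nat.card (T.map σ) ≤ Nat.card T := Nat.card_le_card_of_surjective _ hsurj
  have hbij := hsurj.bijective_of_nat_card_le (by rw [hmap]; exact le_trans hTle hS)
  have hinj : ∀ x ∈ T, σ x = 1 → x = 1 := by
    intro x hx hx1
    have : σ.subgroupMap T ⟨x, hx⟩ = σ.subgroupMap T 1 := by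
      apply Subtype.ext
      rw [map_one]
      exact hx1
    have := hbij.1 this
    exact congrArg Subtype.val this
  have hScard : Nat.card SLower.Ssub = 15120 := by
    apply le_antisymm _ hS
    rw [← hmap]
    exact le_trans hle2 hTle
  have hidx : SLower.Ssub.index = 266560 := by
    have h1 := Subgroup.card_mul_index SLower.Ssub
    rw [hScard, Cfsg.Agent.Lib.H17.HeOrd.card_eq] at h1
    omega
  set K := SLower.Ssub.comap σ with hK
  have hKidx : K.index = 266560 := by
    rw [hK, Subgroup.index_comap_of_surjective _ hs, hidx]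
  have hKT : ⁅K, K⁆ ≤ T := by
    rw [Subgroup.commutator_le]
    have dec : ∀ x ∈ K, ∃ k ∈ σ.ker, ∃ t ∈ T, x = k * t := by
      intro x hx
      have hx' : σ x ∈ T.map σ := by rw [hmap]; exact hx
      obtain ⟨t, ht, hte⟩ := hx'
      refine ⟨x * t⁻¹, ?_, t, ht, by group⟩
      rw [MonoidHom.mem_ker, map_mul, map_inv, hte, mul_inv_cancel]
    intro x₁ h₁ x₂ h₂
    obtain ⟨k₁, hk₁, t₁, ht₁, rfl⟩ := dec x₁ h₁
    obtain ⟨k₂, hk₂, t₂, ht₂, rfl⟩ := dec x₂ h₂
    rw [Cfsg.Agent.Lib.H28.StemPres.commutatorElement_central_mul (hc hk₁) (hc hk₂)]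
    exact T.mul_mem (T.mul_mem (T.mul_mem ht₁ ht₂) (T.inv_mem ht₁)) (T.inv_mem ht₂)
  rw [eq_bot_iff]
  intro z hz
  rw [Subgroup.mem_bot]
  have hzK : z ∈ K := by
    rw [hK, Subgroup.mem_comap, MonoidHom.mem_ker.mp hz]
    exact one_mem _
  have hz1 := Cfsg.Agent.Lib.H28.StemTools.mem_commutator_of_central K (hc hz) hzK (hd hz)
    (h3 z hz) (by rw [hKidx]; norm_num)
  exact hinj z (hKT hz1) (MonoidHom.mem_ker.mp hz)

end Cfsg.Agent.Lib.H28.HeM.Three
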