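import Cfsg.Agent.Lib.H28.HeM.Two
import Cfsg.Agent.Lib.H28.HeM.Odd
import Cfsg.Agent.Lib.H28.HeM.Three

set_option autoImplicit false
set_option maxRecDepth 100000

/-!
# The Schur multiplier of the Held group is trivial (helper28)

Every finite stem extension of the presented Held group has trivial kernel.  By passing to
quotients one reduces to a kernel of prime order `p`.  For `p = 2` exact lifts of the generators
are constructed by hand and two certified partial coset enumerations.  For odd `p` the generators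
have involutory lifts satisfying all relations but the last one; for `p = 3` transfer to the
subgroup `3.S₇` applies, and for `p ≥ 5` a third certified enumeration.
-/

namespace Cfsg.Agent.Lib.H28.HeM.Main

open Subgroup Cfsg.Agent.Lib.H28.HeM.HeRel Cfsg.Agent.Lib.H17.HeGlue
  Cfsg.Agent.Lib.H28.HeM.KerTools

universe u

/-- lifts satisfying all the relations force a trivial kernel -/
theorem ker_bot_of_lifts {Γ : Type*} [Group Γ] (σ : Γ →* PresentedGroup rels)
    (hc : σ.ker ≤ center Γ) (hd : σ.ker ≤ commutator Γ)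
    (a b c d e f g : Γ) (ha : σ a = s .a) (hb : σ b = s .b) (hcσ : σ c = s .c)
    (hdσ : σ d = s .d) (he : σ e = s .e) (hf : σ f = s .f) (hg : σ g = s .g)
    (R : Rel0 a b c d e f g) (R4 : (c * d * f * g) ^ 4 = 1) : σ.ker = ⊥ := by
  let t : Gen → Γ := fun u => match u with
    | .a => a | .b => b | .c => c | .d => d | .e => e | .f => f | .g => g
  have hW := words_of_rel t R R4
  have hinv : ∀ u, t u * t u = 1 := by
    intro u
    cases u
    · exact R.sa
    · exact R.sb
    · exact R.sc
    · exact R.sd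
    · exact R.se
    · exact R.sf
    · exact R.sg
  have hrel := lift_rels t hinv hW
  have hσt : ∀ u, σ (t u) = PresentedGroup.of u := by
    intro u
    cases u
    · exact ha
    · exact hb
    · exact hcσ
    · exact hdσ
    · exact he
    · exact hf
    · exact hg
  have := Cfsg.Agent.Lib.H28.StemPres.ker_le_of_relator_values σ hc hd t hσt ⊥ bot_le
    (fun r hr => by rw [Subgroup.mem_bot]; exact hrel r hr)
  exact eq_bot_iff.mpr this

/-- kernels of prime order are impossible -/
theorem prime_case {Γ : Type*} [Group Γ] [Finite Γ] (σ : Γ →* PresentedGroup rels)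
    (hσ : Cfsg.IsStemExtension σ) (p : ℕ) (hp : p.Prime) (hcard : Nat.card σ.ker = p) :
    σ.ker = ⊥ := by
  obtain ⟨hs, hc, hd⟩ := hσ
  have hpow : ∀ k : Γ, σ k = 1 → k ∈ center Γ ∧ k ^ p = 1 := by
    intro k hk
    have hk' : k ∈ σ.ker := MonoidHom.mem_ker.mpr hk
    refine ⟨hc hk', ?_⟩
    have := pow_card_eq_one' (G := σ.ker) (x := ⟨k, hk'⟩)
    rw [hcard] at this
    exact congrArg Subtype.val this
  have R := rel0_of
  have R4 := x4_of
  by_cases h2 : p = 2
  · subst h2
    have hk : ∀ k : Γ, σ k = 1 → CI k := by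
      intro k hk
      obtain ⟨h1, h2⟩ := hpow k hk
      exact ⟨h1, by rw [← pow_two]; exact h2⟩
    obtain ⟨a, b, c, d, e, f, g, ha, hb, hcσ, hdσ, he, hf, hg, R', R4'⟩ :=
      Two.main σ hs hk _ _ _ _ _ _ _ R R4
    exact ker_bot_of_lifts σ hc hd a b c d e f g ha hb hcσ hdσ he hf hg R' R4'
  · have hodd : Odd p := hp.odd_of_ne_two h2
    obtain ⟨a, b, c, d, e, f, g, ha, hb, hcσ, hdσ, he, hf, hg, R'⟩ :=
      Odd.main σ hs hodd hpow _ _ _ _ _ _ _ R
    by_cases h3 : p = 3
    · subst h3
      exact Three.main σ hs hc hd (fun k hk => (hpow k (MonoidHom.mem_ker.mp hk)).2)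
        a b c d e f g ha hb hcσ hdσ he R'
    · have hcop : Nat.Coprime p 12 := by
        rw [Nat.Prime.coprime_iff_not_dvd hp]
        intro hdvd
        have hle : p ≤ 12 := Nat.le_of_dvd (by norm_num) hdvd
        interval_cases p <;> simp_all (config := { decide := true })
      have R4' := Odd.last σ hcop hpow R' (by
        rw [map_pow, map_mul, map_mul, map_mul, hcσ, hdσ, hf, hg]; exact R4)
      exact ker_bot_of_lifts σ hc hd a b c d e f g ha hb hcσ hdσ he hf hg R' R4'

/-- every finite stem extension of the Held group has trivial kernel -/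
theorem ker_eq_bot_aux : ∀ n : ℕ, ∀ (Γ : Type) [Group Γ] [Finite Γ]
    (σ : Γ →* PresentedGroup rels), Cfsg.IsStemExtension σ → Nat.card σ.ker = n → σ.ker = ⊥ := by
  intro n
  induction n using Nat.strong_induction_on with
  | _ n ih =>
    intro Γ _ _ σ hσ hn
    by_contra hne
    have h1 : Nat.card σ.ker ≠ 1 := fun h => hne (Subgroup.eq_bot_of_card_eq _ h)
    obtain ⟨p, hp, hdvd⟩ := Nat.exists_prime_and_dvd h1
    haveI : Fact p.Prime := ⟨hp⟩
    obtain ⟨x, hx⟩ := exists_prime_orderOf_dvd_card' (G := σ.ker) p hdvd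
    set Z0 : Subgroup Γ := (Subgroup.zpowers x).map σ.ker.subtype with hZ0
    have hZ0le : Z0 ≤ σ.ker := by
      rintro _ ⟨y, -, rfl⟩
      exact y.2
    have hZ0card : Nat.card Z0 = p := by
      rw [hZ0, Subgroup.card_map_of_injective (Subgroup.subtype_injective _), Nat.card_zpowers, hx]
    obtain ⟨Γ', i1, i2, σ', hσ', hc⟩ :=
      Cfsg.Agent.Lib.H28.StemTools.exists_stem_quotient σ hσ Z0 hZ0le
    rw [hZ0card, hn] at hc
    have hpos : 0 < n := by
      rw [← hn]; exact Nat.card_pos
    have hlt : Nat.card σ'.ker < n := by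
      have h2 := hp.two_le
      have hk0 : 0 < Nat.card σ'.ker := Nat.card_pos
      nlinarith
    have hbot := ih _ hlt Γ' σ' hσ' rfl
    rw [hbot, Subgroup.card_bot, one_mul] at hc
    exact hne (prime_case σ hσ p hp (by rw [hn, hc]))

theorem ker_eq_bot (Γ : Type) [Group Γ] [Finite Γ] (σ : Γ →* PresentedGroup rels)
    (hσ : Cfsg.IsStemExtension σ) : σ.ker = ⊥ :=
  ker_eq_bot_aux _ Γ σ hσ rfl

end Cfsg.Agent.Lib.H28.HeM.Main
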