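import Cfsg.Agent.Lib.H28.HeM.TwoLifts
import Cfsg.Agent.Lib.H28.HeM.CertA.Main
import Cfsg.Agent.Lib.H28.HeM.CertB.Main

set_option autoImplicit false
set_option maxRecDepth 100000

/-!
# Extensions of the Held group with kernel of exponent two (helper28)

If the kernel of a surjection onto a group generated by seven elements satisfying the Held
relations consists of central elements of order at most two, the seven elements have lifts
satisfying the same relations.
-/

namespace Cfsg.Agent.Lib.H28.HeM.Two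

open Subgroup Cfsg.Agent.Lib.H28.CentralTools Cfsg.Agent.Lib.H28.HeM.KerTools
  Cfsg.Agent.Lib.H28.HeM.HeRel Cfsg.Agent.Lib.H28.HeM.TwoLifts
open scoped commutatorElement

variable {Γ : Type*} [Group Γ] {K : Type*} [Group K]

theorem comm_of_pow_two {x y : K} (hx : x * x = 1) (hy : y * y = 1) (h : (x * y) ^ 2 = 1) :
    x * y = y * x := by
  have h' : x * y * (x * y) = 1 := by rw [← pow_two]; exact h
  calc x * y = (x * y)⁻¹ := eq_inv_of_mul_eq_one_left h'
    _ = y⁻¹ * x⁻¹ := mul_inv_rev _ _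
    _ = y * x := by
      rw [inv_eq_of_mul_eq_one_left hx, inv_eq_of_mul_eq_one_left hy]

theorem comm_ci (σ : Γ →* K) (hk : ∀ k : Γ, σ k = 1 → CI k) {x y : Γ}
    (h : σ x * σ y = σ y * σ x) : CI ⁅x, y⁆ :=
  hk _ (by rw [map_commutatorElement, commutatorElement_eq_one_iff_mul_comm]; exact h)

theorem comm_defg {y d e f g : Γ} (hd : CI ⁅d, y⁆) (he : CI ⁅e, y⁆) (hf : CI ⁅f, y⁆)
    (hg : CI ⁅g, y⁆) (hde : (d * e) ^ 3 = 1) (hdf : (d * f) ^ 3 = 1) (hgd : (g * d) ^ 3 = 1)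
    (hx1 : e = (f * g) ^ 2) : ⁅d, y⁆ = 1 ∧ ⁅e, y⁆ = 1 ∧ ⁅f, y⁆ = 1 ∧ ⁅g, y⁆ = 1 := by
  have e1 : ⁅d, y⁆ = ⁅e, y⁆ := comm_eq_of_cube hd.1 he.1 hd.2 he.2 hde
  have e2 : ⁅d, y⁆ = ⁅f, y⁆ := comm_eq_of_cube hd.1 hf.1 hd.2 hf.2 hdf
  have e3 : ⁅g, y⁆ = ⁅d, y⁆ := comm_eq_of_cube hg.1 hd.1 hg.2 hd.2 hgd
  have e4 : ⁅e, y⁆ = 1 := comm_one_of_sq hf.1 hg.1 hf.2 hg.2 hx1
  have e5 : ⁅d, y⁆ = 1 := e1.trans e4
  exact ⟨e5, e4, e2.symm.trans e5, e3.trans e5⟩

theorem comm_c {y b c : Γ} (hb : ⁅b, y⁆ = 1) (hc : CI ⁅c, y⁆) (hbc : (b * c) ^ 3 = 1) :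
    ⁅c, y⁆ = 1 := by
  have hb1 : b ∈ commSub y := by rw [mem_commSub, hb]; exact one_mem _
  have := comm_eq_of_cube hb1 hc.1 (by rw [hb, one_mul]) hc.2 hbc
  rw [← this, hb]

theorem main (σ : Γ →* K) (hs : Function.Surjective σ)
    (hk : ∀ k : Γ, σ k = 1 → CI k) (A B C D E F G : K)
    (R : Rel0 A B C D E F G) (R4 : (C * D * F * G) ^ 4 = 1) :
    ∃ a b c d e f g : Γ, σ a = A ∧ σ b = B ∧ σ c = C ∧ σ d = D ∧ σ e = E ∧ σ f = F ∧ σ g = G ∧
      Rel0 a b c d e f g ∧ (c * d * f * g) ^ 4 = 1 := by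
  obtain ⟨a, b, c, d, e, f, g, ha, hb, hc, hd, he, hf, hg, hbc, hde, hdf, hgd, hx1, hx2, hx3⟩ :=
    exists_lifts σ hs hk A B C D E F G R
  refine ⟨a, b, c, d, e, f, g, ha, hb, hc, hd, he, hf, hg, ?_⟩
  -- commutations downstairs
  have AC := comm_of_pow_two R.sa R.sc R.ac
  have AD := comm_of_pow_two R.sa R.sd R.ad
  have AE := comm_of_pow_two R.sa R.se R.ae
  have AF := comm_of_pow_two R.sa R.sf R.af
  have AG := comm_of_pow_two R.sa R.sg R.ag
  have BD := comm_of_pow_two R.sb R.sd R.bd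
  have BE := comm_of_pow_two R.sb R.se R.be
  have BF := comm_of_pow_two R.sb R.sf R.bf
  have BG := comm_of_pow_two R.sb R.sg R.bg
  have CE := comm_of_pow_two R.sc R.se R.ce
  have CF := comm_of_pow_two R.sc R.sf R.cf
  have CG := comm_of_pow_two R.sc R.sg R.cg
  have EF := comm_of_pow_two R.se R.sf R.ef
  have EG := comm_of_pow_two R.se R.sg R.eg
  -- squares
  have saa : CI (a * a) := hk _ (by rw [map_mul, ha, R.sa])
  have sbb : CI (b * b) := hk _ (by rw [map_mul, hb, R.sb])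
  have scc : CI (c * c) := hk _ (by rw [map_mul, hc, R.sc])
  have sdd : CI (d * d) := hk _ (by rw [map_mul, hd, R.sd])
  have see : CI (e * e) := hk _ (by rw [map_mul, he, R.se])
  have sff : CI (f * f) := hk _ (by rw [map_mul, hf, R.sf])
  have sgg : CI (g * g) := hk _ (by rw [map_mul, hg, R.sg])
  have hbb_cc : b * b = c * c := sq_eq_of_cube sbb scc hbc
  have hdd_ee : d * d = e * e := sq_eq_of_cube sdd see hde
  have hdd_ff : d * d = f * f := sq_eq_of_cube sdd sff hdf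
  have hgg_dd : g * g = d * d := sq_eq_of_cube sgg sdd hgd
  -- a and b commute with d, e, f, g
  obtain ⟨cda, cea, cfa, cga⟩ := comm_defg (y := a)
    (comm_ci σ hk (by rw [hd, ha]; exact AD.symm)) (comm_ci σ hk (by rw [he, ha]; exact AE.symm))
    (comm_ci σ hk (by rw [hf, ha]; exact AF.symm)) (comm_ci σ hk (by rw [hg, ha]; exact AG.symm))
    hde hdf hgd hx1
  obtain ⟨cdb, ceb, cfb, cgb⟩ := comm_defg (y := b)
    (comm_ci σ hk (by rw [hd, hb]; exact BD.symm)) (comm_ci σ hk (by rw [he, hb]; exact BE.symm))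
    (comm_ci σ hk (by rw [hf, hb]; exact BF.symm)) (comm_ci σ hk (by rw [hg, hb]; exact BG.symm))
    hde hdf hgd hx1
  -- c commutes with e, f, g
  have cce : ⁅c, e⁆ = 1 := comm_c (comm_symm_one ceb) (comm_ci σ hk (by rw [hc, he]; exact CE)) hbc
  have ccf : ⁅c, f⁆ = 1 := comm_c (comm_symm_one cfb) (comm_ci σ hk (by rw [hc, hf]; exact CF)) hbc
  have ccg : ⁅c, g⁆ = 1 := comm_c (comm_symm_one cgb) (comm_ci σ hk (by rw [hc, hg]; exact CG)) hbc
  have had : a * d = d * a := (mul_comm_of_comm_one cda).symm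
  have hae : a * e = e * a := (mul_comm_of_comm_one cea).symm
  have haf : a * f = f * a := (mul_comm_of_comm_one cfa).symm
  have hag : a * g = g * a := (mul_comm_of_comm_one cga).symm
  have hbd : b * d = d * b := (mul_comm_of_comm_one cdb).symm
  have hbe : b * e = e * b := (mul_comm_of_comm_one ceb).symm
  have hbf : b * f = f * b := (mul_comm_of_comm_one cfb).symm
  have hbg : b * g = g * b := (mul_comm_of_comm_one cgb).symm
  have hce : c * e = e * c := mul_comm_of_comm_one cce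
  have hcf : c * f = f * c := mul_comm_of_comm_one ccf
  have hcg : c * g = g * c := mul_comm_of_comm_one ccg
  -- a commutes with c
  have hac : a * c = c * a := by
    have h1 : Commute a (c * d) := by
      rw [hx3]
      exact (Commute.refl (c * d)).pow_left 5
    have h2 : Commute a d := had
    have h3 : Commute a (c * d * d⁻¹) := h1.mul_right h2.inv_right
    rw [mul_inv_cancel_right] at h3
    exact h3
  -- first certificate
  have hcA : ∀ β ∈ [a * a, b * b, d * d, (a * b) ^ 4, a⁻¹ * c⁻¹ * a * c, c⁻¹ * e⁻¹ * c * e],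
      β ∈ Subgroup.center Γ ∧ β * β = 1 := by
    intro β hβ
    simp only [List.mem_cons, List.not_mem_nil, or_false] at hβ
    rcases hβ with rfl | rfl | rfl | rfl | rfl | rfl
    · exact saa
    · exact sbb
    · exact sdd
    · exact hk _ (by rw [map_pow, map_mul, ha, hb, R.ab])
    · have : a⁻¹ * c⁻¹ * a * c = 1 := by
        calc a⁻¹ * c⁻¹ * a * c = a⁻¹ * c⁻¹ * (a * c) := by group
          _ = a⁻¹ * c⁻¹ * (c * a) := by rw [hac]
          _ = 1 := by group
      rw [this]; exact CI.one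
    · have : c⁻¹ * e⁻¹ * c * e = 1 := by
        calc c⁻¹ * e⁻¹ * c * e = c⁻¹ * e⁻¹ * (c * e) := by group
          _ = c⁻¹ * e⁻¹ * (e * c) := by rw [hce]
          _ = 1 := by group
      rw [this]; exact CI.one
  obtain ⟨hbb, hab4⟩ := CertA.main a b c d e hbc hde hx2 hx3 had hae hbd hbe hbb_cc hdd_ee hcA
  have hcc : c * c = 1 := by rw [← hbb_cc]; exact hbb
  -- second certificate
  have hcB : ∀ β ∈ [a * a, d * d, e⁻¹ * f⁻¹ * e * f, e⁻¹ * g⁻¹ * e * g, (c * d * f * g) ^ 4],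
      β ∈ Subgroup.center Γ ∧ β * β = 1 := by
    intro β hβ
    simp only [List.mem_cons, List.not_mem_nil, or_false] at hβ
    rcases hβ with rfl | rfl | rfl | rfl | rfl
    · exact saa
    · exact sdd
    · refine hk _ ?_
      rw [map_mul, map_mul, map_mul, map_inv, map_inv, he, hf]
      calc E⁻¹ * F⁻¹ * E * F = E⁻¹ * F⁻¹ * (E * F) := by group
        _ = E⁻¹ * F⁻¹ * (F * E) := by rw [EF]
        _ = 1 := by group
    · refine hk _ ?_
      rw [map_mul, map_mul, map_mul, map_inv, map_inv, he, hg]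
      calc E⁻¹ * G⁻¹ * E * G = E⁻¹ * G⁻¹ * (E * G) := by group
        _ = E⁻¹ * G⁻¹ * (G * E) := by rw [EG]
        _ = 1 := by group
    · exact hk _ (by rw [map_pow, map_mul, map_mul, map_mul, hc, hd, hf, hg, R4])
  obtain ⟨haa, hdd, hef1, heg1, h4⟩ := CertB.main a c d e f g hcc hde hdf hgd hx1 hx3 hac had hae
    haf hag hce hcf hcg hdd_ee hdd_ff hgg_dd.symm hcB
  have hee : e * e = 1 := by rw [← hdd_ee]; exact hdd
  have hff : f * f = 1 := by rw [← hdd_ff]; exact hdd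
  have hgg : g * g = 1 := by rw [hgg_dd]; exact hdd
  have hef : e * f = f * e := by
    calc e * f = f * e * (e⁻¹ * f⁻¹ * e * f) := by group
      _ = f * e := by rw [hef1, mul_one]
  have heg : e * g = g * e := by
    calc e * g = g * e * (e⁻¹ * g⁻¹ * e * g) := by group
      _ = g * e := by rw [heg1, mul_one]
  refine ⟨⟨haa, hbb, hcc, hdd, hee, hff, hgg, hab4, pow_two_of_comm hac haa hcc,
    pow_two_of_comm had haa hdd, pow_two_of_comm hae haa hee, pow_two_of_comm haf haa hff,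
    pow_two_of_comm hag haa hgg, hbc, pow_two_of_comm hbd hbb hdd, pow_two_of_comm hbe hbb hee,
    pow_two_of_comm hbf hbb hff, pow_two_of_comm hbg hbb hgg, ?_, pow_two_of_comm hce hcc hee,
    pow_two_of_comm hcf hcc hff, pow_two_of_comm hcg hcc hgg, hde, hdf, ?_,
    pow_two_of_comm hef hee hff, pow_two_of_comm heg hee hgg, ?_, hx1, hx2, hx3⟩, h4⟩
  · rw [show 10 = 5 * 2 by norm_num, pow_mul, ← hx3, pow_two, haa]
  · have : (d * g) ^ 3 = g⁻¹ * (g * d) ^ 3 * g := by
      simp only [pow_succ, pow_zero, one_mul]; group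
    rw [this, hgd]; group
  · rw [show 4 = 2 * 2 by norm_num, pow_mul, ← hx1, pow_two, hee]

end Cfsg.Agent.Lib.H28.HeM.Two
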