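import Cfsg.Agent.Lib.H28.HeM.KerTools
import Cfsg.Agent.Lib.H28.HeM.HeRel

set_option autoImplicit false
set_option maxRecDepth 100000

/-!
# Lifts of the Held generators to an extension with kernel of exponent two (helper28)
-/

namespace Cfsg.Agent.Lib.H28.HeM.TwoLifts

open Subgroup Cfsg.Agent.Lib.H28.CentralTools Cfsg.Agent.Lib.H28.HeM.KerTools
  Cfsg.Agent.Lib.H28.HeM.HeRel Cfsg.Agent.Lib.H17.HeGlue
open scoped commutatorElement

variable {Γ : Type*} [Group Γ] {K : Type*} [Group K]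

/-- lifts of seven elements satisfying some of the Held relations exactly -/
theorem exists_lifts (σ : Γ →* K) (hs : Function.Surjective σ)
    (hk : ∀ k : Γ, σ k = 1 → CI k) (A B C D E F G : K)
    (R : Rel0 A B C D E F G) :
    ∃ a b c d e f g : Γ, σ a = A ∧ σ b = B ∧ σ c = C ∧ σ d = D ∧ σ e = E ∧ σ f = F ∧ σ g = G ∧
      (b * c) ^ 3 = 1 ∧ (d * e) ^ 3 = 1 ∧ (d * f) ^ 3 = 1 ∧ (g * d) ^ 3 = 1 ∧
      e = (f * g) ^ 2 ∧ e = (a * b * c) ^ 3 ∧ a = (c * d) ^ 5 := by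
  obtain ⟨f0, hf0⟩ := hs F
  obtain ⟨g0, hg0⟩ := hs G
  obtain ⟨d0, hd0⟩ := hs D
  obtain ⟨c0, hc0⟩ := hs C
  obtain ⟨b0, hb0⟩ := hs B
  have hGD : (G * D) ^ 3 = 1 := by
    have h := R.dg
    have : (G * D) ^ 3 = D⁻¹ * (D * G) ^ 3 * D := by
      simp only [pow_succ, pow_zero, one_mul]; group
    rw [this, h]; group
  -- e
  set e1 := (f0 * g0) ^ 2 with he1
  have hσe1 : σ e1 = E := by rw [he1, map_pow, map_mul, hf0, hg0, ← R.x1]
  -- d
  have k1 : CI ((d0 * e1) ^ 3) := hk _ (by rw [map_pow, map_mul, hd0, hσe1, R.de])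
  set d1 := d0 * (d0 * e1) ^ 3 with hd1
  have hσd1 : σ d1 = D := by
    rw [hd1, map_mul, map_pow, map_mul, hd0, hσe1, R.de, mul_one]
  have hde : (d1 * e1) ^ 3 = 1 := fix_left k1
  -- f
  have k2 : CI ((d1 * f0) ^ 3) := hk _ (by rw [map_pow, map_mul, hσd1, hf0, R.df])
  set f1 := f0 * (d1 * f0) ^ 3 with hf1
  have hσf1 : σ f1 = F := by
    rw [hf1, map_mul, map_pow, map_mul, hσd1, hf0, R.df, mul_one]
  have hdf : (d1 * f1) ^ 3 = 1 := fix_right k2
  have he1' : e1 = (f1 * g0) ^ 2 := by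
    rw [hf1, mid_right k2.1, mul_ci_pow2 k2]
  -- g
  have k3 : CI ((g0 * d1) ^ 3) := hk _ (by rw [map_pow, map_mul, hg0, hσd1, hGD])
  set g1 := g0 * (g0 * d1) ^ 3 with hg1
  have hσg1 : σ g1 = G := by
    rw [hg1, map_mul, map_pow, map_mul, hg0, hσd1, hGD, mul_one]
  have hgd : (g1 * d1) ^ 3 = 1 := fix_left k3
  have he1'' : e1 = (f1 * g1) ^ 2 := by
    rw [hg1, ← mul_assoc, mul_ci_pow2 k3]
    exact he1'
  -- b
  have k4 : CI ((b0 * c0) ^ 3) := hk _ (by rw [map_pow, map_mul, hb0, hc0, R.bc])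
  set b1 := b0 * (b0 * c0) ^ 3 with hb1
  have hσb1 : σ b1 = B := by
    rw [hb1, map_mul, map_pow, map_mul, hb0, hc0, R.bc, mul_one]
  have hbc : (b1 * c0) ^ 3 = 1 := fix_left k4
  -- a
  set a0 := (c0 * d1) ^ 5 with ha0
  have hσa0 : σ a0 = A := by rw [ha0, map_pow, map_mul, hc0, hσd1, ← R.x3]
  set v := e1⁻¹ * (a0 * b1 * c0) ^ 3 with hv
  have hσv : σ v = 1 := by
    rw [hv, map_mul, map_inv, hσe1, map_pow, map_mul, map_mul, hσa0, hσb1, hc0, ← R.x2,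
      inv_mul_cancel]
  have kv : CI v := hk _ hσv
  have hv' : (a0 * b1 * c0) ^ 3 = e1 * v := by rw [hv]; group
  have cv := cen_comm kv.1
  refine ⟨a0 * v, b1 * v, c0 * v, d1, e1, f1, g1, ?_, ?_, ?_, hσd1, hσe1, hσf1, hσg1, ?_, hde, hdf,
    hgd, he1'', ?_, ?_⟩
  · rw [map_mul, hσa0, hσv, mul_one]
  · rw [map_mul, hσb1, hσv, mul_one]
  · rw [map_mul, hc0, hσv, mul_one]
  · have : b1 * v * (c0 * v) = b1 * c0 := by
      calc b1 * v * (c0 * v) = b1 * (v * c0) * v := by group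
        _ = b1 * (c0 * v) * v := by rw [cv c0]
        _ = b1 * c0 * (v * v) := by group
        _ = b1 * c0 := by rw [kv.2, mul_one]
    rw [this, hbc]
  · have : a0 * v * (b1 * v) * (c0 * v) = a0 * b1 * c0 * v := by
      calc a0 * v * (b1 * v) * (c0 * v) = a0 * (v * b1) * (v * c0) * v := by group
        _ = a0 * (b1 * v) * (c0 * v) * v := by rw [cv b1, cv c0]
        _ = a0 * b1 * (v * c0) * (v * v) := by group
        _ = a0 * b1 * (c0 * v) := by rw [kv.2, mul_one, cv c0]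
        _ = a0 * b1 * c0 * v := by group
    rw [this, mul_ci_pow3 kv, hv', mul_assoc, kv.2, mul_one]
  · rw [mid_right kv.1, mul_ci_pow5 kv]

end Cfsg.Agent.Lib.H28.HeM.TwoLifts
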